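import Mathlib

/-!
The Baer trick: a group of class two whose commutators have odd exponent `2m - 1` carries an
abelian group law `x ∗ y = x y ⁅y, x⁆ ^ m` preserved by all automorphisms.
-/

set_option autoImplicit false

namespace Cfsg.Agent.Lib.PGroupAut

open Subgroup
open scoped commutatorElement

/-- The hypotheses of the Baer trick. -/
structure BaerData (G : Type*) [Group G] (m : ℕ) : Prop where
  mem_center : ∀ a b : G, ⁅a, b⁆ ∈ center G
  pow_eq : ∀ a b : G, ⁅a, b⁆ ^ (2 * m) = ⁅a, b⁆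

namespace BaerData

variable {G : Type*} [Group G] {m : ℕ}

theorem comm_central (h : BaerData G m) (a b c : G) : ⁅a, b⁆ * c = c * ⁅a, b⁆ :=
  (mem_center_iff.mp (h.mem_center a b) c).symm

theorem commute_pow (h : BaerData G m) (a b c : G) (k : ℕ) : ⁅a, b⁆ ^ k * c = c * ⁅a, b⁆ ^ k :=
  (mem_center_iff.mp (pow_mem (h.mem_center a b) k) c).symm

theorem mul_left (h : BaerData G m) (a b c : G) : ⁅a * b, c⁆ = ⁅a, c⁆ * ⁅b, c⁆ := by
  have h1 : ⁅a * b, c⁆ = a * ⁅b, c⁆ * a⁻¹ * ⁅a, c⁆ := by simp [commutatorElement_def, mul_assoc]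
  rw [h1, ← h.comm_central b c a, mul_inv_cancel_right, h.comm_central]

theorem mul_right (h : BaerData G m) (a b c : G) : ⁅a, b * c⁆ = ⁅a, b⁆ * ⁅a, c⁆ := by
  have h1 : ⁅a, b * c⁆ = ⁅a, b⁆ * (b * ⁅a, c⁆ * b⁻¹) := by simp [commutatorElement_def, mul_assoc]
  rw [h1, ← h.comm_central a c b, mul_inv_cancel_right]

theorem central_left (h : BaerData G m) (a b c : G) : ⁅⁅a, b⁆, c⁆ = 1 := by
  rw [commutatorElement_eq_one_iff_mul_comm]
  exact h.comm_central a b c

theorem central_pow_left (h : BaerData G m) (a b c : G) (k : ℕ) : ⁅⁅a, b⁆ ^ k, c⁆ = 1 := by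
  rw [commutatorElement_eq_one_iff_mul_comm]
  exact h.commute_pow a b c k

theorem central_pow_right (h : BaerData G m) (a b c : G) (k : ℕ) : ⁅c, ⁅a, b⁆ ^ k⁆ = 1 := by
  rw [commutatorElement_eq_one_iff_mul_comm]
  exact (h.commute_pow a b c k).symm

/-- The abelian law. -/
def op (_ : BaerData G m) (x y : G) : G := x * y * ⁅y, x⁆ ^ m

theorem op_comm (h : BaerData G m) (x y : G) : h.op x y = h.op y x := by
  have h1 : y * x = ⁅y, x⁆ * (x * y) := by simp [commutatorElement_def, mul_assoc]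
  have h2 : ⁅x, y⁆ = ⁅y, x⁆⁻¹ := (commutatorElement_inv y x).symm
  unfold op
  rw [h1, h.comm_central, h2, mul_assoc (x * y)]
  congr 1
  rw [inv_pow, eq_mul_inv_iff_mul_eq, ← pow_add, ← two_mul, h.pow_eq]

theorem op_assoc (h : BaerData G m) (x y z : G) : h.op (h.op x y) z = h.op x (h.op y z) := by
  unfold op
  rw [h.mul_right z, h.mul_right z, h.central_pow_right, mul_one, h.mul_left (y * z),
    h.central_pow_left, mul_one, h.mul_left y z]
  have hcomm : ∀ a b : G, Commute ⁅a, b⁆ ⁅z, x⁆ := fun a b => h.comm_central a b _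
  have h3 : Commute ⁅z, x⁆ ⁅z, y⁆ := h.comm_central z x ⁅z, y⁆
  rw [(hcomm y x).mul_pow, h3.mul_pow]
  calc x * y * ⁅y, x⁆ ^ m * z * (⁅z, x⁆ ^ m * ⁅z, y⁆ ^ m)
      = x * y * (⁅y, x⁆ ^ m * z) * (⁅z, x⁆ ^ m * ⁅z, y⁆ ^ m) := by group
    _ = x * y * (z * ⁅y, x⁆ ^ m) * (⁅z, x⁆ ^ m * ⁅z, y⁆ ^ m) := by rw [h.commute_pow]
    _ = x * y * z * ((⁅y, x⁆ ^ m * ⁅z, x⁆ ^ m) * ⁅z, y⁆ ^ m) := by group
    _ = x * y * z * (⁅z, y⁆ ^ m * (⁅y, x⁆ ^ m * ⁅z, x⁆ ^ m)) := by rw [h.commute_pow z y]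
    _ = x * (y * z * ⁅z, y⁆ ^ m) * (⁅y, x⁆ ^ m * ⁅z, x⁆ ^ m) := by group

end BaerData

/-- `G` with the abelian law of the Baer trick. -/
@[ext]
structure Baer {G : Type*} [Group G] {m : ℕ} (h : BaerData G m) where
  /-- The underlying element. -/
  val : G

namespace Baer

variable {G : Type*} [Group G] {m : ℕ} {h : BaerData G m}

instance instMulBaer : Mul (Baer h) := ⟨fun x y => ⟨h.op x.val y.val⟩⟩
instance instOneBaer : One (Baer h) := ⟨⟨1⟩⟩
instance instInvBaer : Inv (Baer h) := ⟨fun x => ⟨x.val⁻¹⟩⟩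

theorem mul_val (x y : Baer h) : (x * y).val = x.val * y.val * ⁅y.val, x.val⁆ ^ m := rfl

@[simp] theorem one_val : (1 : Baer h).val = 1 := rfl

instance instCommGroupBaer : CommGroup (Baer h) where
  mul_assoc x y z := Baer.ext (h.op_assoc x.val y.val z.val)
  one_mul x := Baer.ext (by simp [mul_val])
  mul_one x := Baer.ext (by simp [mul_val])
  inv_mul_cancel x := Baer.ext (by
    show x.val⁻¹ * x.val * ⁅x.val, x.val⁻¹⁆ ^ m = 1
    simp [commutatorElement_def])
  mul_comm x y := Baer.ext (h.op_comm x.val y.val)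

theorem mul_val_of_mem_center {x : Baer h} {y : Baer h} (hy : y.val ∈ center G) :
    (x * y).val = x.val * y.val := by
  rw [mul_val, (commutatorElement_eq_one_iff_mul_comm).mpr (mem_center_iff.mp hy x.val).symm,
    one_pow, mul_one]

theorem pow_val (x : Baer h) (k : ℕ) : (x ^ k).val = x.val ^ k := by
  induction k with
  | zero => simp
  | succ k ih =>
    rw [pow_succ, mul_val, ih, pow_succ, (commutatorElement_eq_one_iff_mul_comm).mpr
      (Commute.pow_right (Commute.refl x.val) k), one_pow, mul_one]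

/-- An automorphism of `G` is an automorphism for the new law. -/
def lift (h : BaerData G m) (f : MulAut G) : Baer h →* Baer h where
  toFun x := ⟨f x.val⟩
  map_one' := Baer.ext (map_one f)
  map_mul' x y := Baer.ext (by
    show f (x.val * y.val * ⁅y.val, x.val⁆ ^ m) = f x.val * f y.val * ⁅f y.val, f x.val⁆ ^ m
    rw [map_mul, map_mul, map_pow, map_commutatorElement])

@[simp] theorem lift_val (f : MulAut G) (x : Baer h) : (lift h f x).val = f x.val := rfl

end Baer

end Cfsg.Agent.Lib.PGroupAut
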